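import Groth.Agent.Lech.Stairs

/-!
Lech's inequality, by leading exponents with respect to generators of the maximal ideal.
-/

set_option autoImplicit false

open Filter Finset IsLocalRing

namespace Groth.Agent.Lech

noncomputable section
open Classical

universe u

variable {O : Type u} [CommRing O] {N : ℕ} (x : Fin N → O)

/-- monomial -/
def mon (a : Fin N → ℕ) : O := ∏ i, x i ^ a i

/-- total degree -/
def deg (a : Fin N → ℕ) : ℕ := ∑ i, a i

lemma mon_add (a b : Fin N → ℕ) : mon x (a + b) = mon x a * mon x b := by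
  simp [mon, Pi.add_apply, pow_add, Finset.prod_mul_distrib]

omit x in
lemma deg_add (a b : Fin N → ℕ) : deg (a + b) = deg a + deg b := by
  simp [deg, Finset.sum_add_distrib]

omit x in
/-- degree-lexicographic key -/
def key (a : Fin N → ℕ) : ℕ ×ₗ Lex (Fin N → ℕ) := toLex (deg a, toLex a)

omit x in
lemma key_injective : Function.Injective (key (N := N)) := fun a b h => by
  simpa [key] using (Prod.ext_iff.1 (toLex.injective h)).2

omit x in
lemma key_lt {a b : Fin N → ℕ} : key a < key b ↔ deg a < deg b ∨ deg a = deg b ∧ toLex a < toLex b :=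
  Prod.Lex.toLex_lt_toLex

variable (M : Ideal O)

/-- strictly after `a` -/
def after (a : Fin N → ℕ) : Ideal O :=
  M ^ (deg a + 1) ⊔ Ideal.span (mon x '' {b | deg b = deg a ∧ toLex a < toLex b})

/-- leading exponents of an ideal -/
def lead (I : Ideal O) : Set (Fin N → ℕ) := {a | mon x a ∈ I ⊔ after x M a}

variable {x} {M} (hx : Ideal.span (Set.range x) = M)
include hx

lemma mon_mem (a : Fin N → ℕ) : mon x a ∈ M ^ deg a := by
  have hi : ∀ i, x i ^ a i ∈ M ^ a i := fun i =>
    Ideal.pow_mem_pow (hx ▸ Ideal.subset_span ⟨i, rfl⟩) _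
  rw [deg, ← Finset.prod_pow_eq_pow_sum]
  exact Ideal.prod_mem_prod fun i _ => hi i

lemma pow_eq_span (d : ℕ) : M ^ d = Ideal.span (mon x '' {b | deg b = d}) := by
  refine le_antisymm ?_ (Ideal.span_le.2 ?_)
  · induction d with
    | zero =>
      rw [pow_zero, Ideal.one_eq_top]
      rw [top_le_iff, Ideal.eq_top_iff_one]
      exact Ideal.subset_span ⟨0, by simp [deg], by simp [mon]⟩
    | succ d ih =>
      rw [pow_succ]
      refine (Ideal.mul_mono ih (le_of_eq hx.symm)).trans ?_
      rw [Ideal.span_mul_span', Ideal.span_le]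
      rintro _ ⟨_, ⟨b, hb, rfl⟩, _, ⟨i, rfl⟩, rfl⟩
      refine Ideal.subset_span ⟨b + Pi.single i 1, ?_, ?_⟩
      · show deg _ = _
        rw [deg_add, show deg b = d from hb]
        simp [deg]
      · rw [mon_add]
        congr 1
        simp [mon, Pi.single_apply, pow_ite, Finset.prod_ite_eq']
  · rintro _ ⟨b, hb, rfl⟩
    rw [← show deg b = d from hb]
    exact mon_mem hx b

lemma after_le_pow (a : Fin N → ℕ) : after x M a ≤ M ^ deg a :=
  sup_le (Ideal.pow_le_pow_right (Nat.le_succ _)) (Ideal.span_le.2 fun _ ⟨b, hb, h⟩ => h ▸ hb.1 ▸ mon_mem hx b)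

lemma mul_after_le (a b : Fin N → ℕ) : Ideal.span {mon x a} * after x M b ≤ after x M (a + b) := by
  rw [after, Ideal.mul_sup]
  refine sup_le ?_ ?_
  · refine le_sup_of_le_left ?_
    refine (Ideal.mul_mono_left ((Ideal.span_singleton_le_iff_mem _).2 (mon_mem hx a))).trans ?_
    rw [← pow_add]
    exact Ideal.pow_le_pow_right (by rw [deg_add]; omega)
  · rw [Ideal.span_mul_span', Ideal.span_le]
    rintro _ ⟨_, rfl, _, ⟨c, ⟨hc1, hc2⟩, rfl⟩, rfl⟩
    refine Ideal.mem_sup_right (Ideal.subset_span ⟨a + c, ⟨by rw [deg_add, deg_add, hc1], ?_⟩, mon_add x a c⟩)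
    exact add_lt_add_right hc2 (toLex a)

lemma after_mul_after_le (a b : Fin N → ℕ) : after x M a * after x M b ≤ after x M (a + b) := by
  show (M ^ (deg a + 1) ⊔ Ideal.span (mon x '' {c | deg c = deg a ∧ toLex a < toLex c})) * after x M b ≤ _
  rw [Ideal.sup_mul]
  refine sup_le ?_ ?_
  · refine le_sup_of_le_left ((Ideal.mul_mono_right (after_le_pow hx b)).trans ?_)
    rw [← pow_add]
    exact Ideal.pow_le_pow_right (by rw [deg_add]; omega)
  · rw [Ideal.mul_le]
    intro y hy z hz
    induction hy using Submodule.span_induction with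
    | zero => simp
    | add y y' _ _ h h' => rw [add_mul]; exact add_mem h h'
    | smul r y _ h => rw [smul_mul_assoc]; exact Submodule.smul_mem _ r h
    | mem y hy =>
      obtain ⟨c, ⟨hc1, hc2⟩, rfl⟩ := hy
      have h1 := mul_after_le hx c b (Ideal.mul_mem_mul (Ideal.mem_span_singleton_self _) hz)
      have h2 : toLex (a + b) < toLex (c + b) := add_lt_add_left hc2 (toLex b)
      refine (sup_le (le_sup_of_le_left (Ideal.pow_le_pow_right ?_)) (Ideal.span_le.2 ?_) :
        after x M (c + b) ≤ after x M (a + b)) h1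
      · rw [deg_add, deg_add, hc1]
      · rintro _ ⟨e, ⟨he1, he2⟩, rfl⟩
        exact Ideal.mem_sup_right (Ideal.subset_span ⟨e, ⟨by rw [he1, deg_add, deg_add, hc1], h2.trans he2⟩, rfl⟩)

omit hx in
lemma lead_mono {I J : Ideal O} (h : I ≤ J) : lead x M I ⊆ lead x M J := fun _ ha => sup_le_sup_right h _ ha

lemma lead_add {I J : Ideal O} {a b : Fin N → ℕ} (ha : a ∈ lead x M I) (hb : b ∈ lead x M J) :
    a + b ∈ lead x M (I * J) := by
  obtain ⟨f, hf, u, hu, hfu⟩ := Submodule.mem_sup.1 ha
  obtain ⟨g, hg, v, hv, hgv⟩ := Submodule.mem_sup.1 hb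
  have key : mon x (a + b) = f * g + (mon x a * v + mon x b * u - u * v) := by
    rw [mon_add, ← hfu, ← hgv]; ring
  show mon x (a + b) ∈ I * J ⊔ after x M (a + b)
  rw [key]
  refine add_mem (Ideal.mem_sup_left (Ideal.mul_mem_mul hf hg)) (Ideal.mem_sup_right ?_)
  refine sub_mem (add_mem ?_ ?_) (after_mul_after_le hx a b (Ideal.mul_mem_mul hu hv))
  · exact mul_after_le hx a b (Ideal.mul_mem_mul (Ideal.mem_span_singleton_self _) hv)
  · rw [add_comm a b]
    exact mul_after_le hx b a (Ideal.mul_mem_mul (Ideal.mem_span_singleton_self _) hu)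

lemma lead_upper {I : Ideal O} {a c : Fin N → ℕ} (ha : a ∈ lead x M I) : a + c ∈ lead x M I := by
  obtain ⟨f, hf, u, hu, hfu⟩ := Submodule.mem_sup.1 ha
  show mon x (a + c) ∈ I ⊔ after x M (a + c)
  rw [mon_add, ← hfu, add_mul, mul_comm u, add_comm a c]
  exact add_mem (Ideal.mem_sup_left (I.mul_mem_right _ hf))
    (Ideal.mem_sup_right (mul_after_le hx c a (Ideal.mul_mem_mul (Ideal.mem_span_singleton_self _) hu)))

lemma isLowerSet_compl_lead (I : Ideal O) : IsLowerSet (lead x M I)ᶜ := by
  intro a b hba ha hb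
  exact ha (by simpa [add_tsub_cancel_of_le hba] using lead_upper hx (c := a - b) hb)

lemma nsmul_mem_lead {I : Ideal O} {b : Fin N → ℕ} (hb : b ∈ lead x M I) :
    ∀ n : ℕ, 0 < n → n • b ∈ lead x M (I ^ n) := by
  intro n hn
  induction n with
  | zero => omega
  | succ n ih =>
    rcases Nat.eq_zero_or_pos n with rfl | hn'
    · simpa using hb
    · rw [succ_nsmul, pow_succ]
      exact lead_add hx (ih hn') hb

variable [IsLocalRing O] (hM : M = maximalIdeal O)
include hM

omit hx in
lemma length_step (J : Ideal O) (y : O) (hy : ∀ m ∈ M, m * y ∈ J) :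
    Module.length O (O ⧸ J) = Module.length O (O ⧸ (J ⊔ Ideal.span {y})) + if y ∈ J then 0 else 1 := by
  split_ifs with h
  · rw [sup_eq_left.2 ((Ideal.span_singleton_le_iff_mem _).2 h), add_zero]
  let f : O ⧸ M →ₗ[O] O ⧸ J := Submodule.mapQ M J (LinearMap.toSpanSingleton O O y) fun m hm => by
    simpa using hy m hm
  have hf : Function.Injective f := by
    rw [injective_iff_map_eq_zero]
    intro q hq
    obtain ⟨r, rfl⟩ := Submodule.Quotient.mk_surjective _ q
    rw [Submodule.mapQ_apply, Submodule.Quotient.mk_eq_zero] at hq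
    rw [Submodule.Quotient.mk_eq_zero]
    by_contra hr
    rw [hM, IsLocalRing.mem_maximalIdeal, mem_nonunits_iff, not_not] at hr
    exact h ((Ideal.unit_mul_mem_iff_mem J hr).1 (by simpa using hq))
  let g : O ⧸ J →ₗ[O] O ⧸ (J ⊔ Ideal.span {y}) := Submodule.factor le_sup_left
  have hfg : Function.Exact f g := by
    intro q
    obtain ⟨r, rfl⟩ := Submodule.Quotient.mk_surjective _ q
    rw [show g (Submodule.Quotient.mk r) = Submodule.Quotient.mk r from rfl, Submodule.Quotient.mk_eq_zero, Set.mem_range]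
    constructor
    · intro hr
      obtain ⟨j, hj, z, hz, rfl⟩ := Submodule.mem_sup.1 hr
      obtain ⟨c, rfl⟩ := Ideal.mem_span_singleton'.1 hz
      refine ⟨Submodule.Quotient.mk c, ?_⟩
      rw [Submodule.mapQ_apply, Submodule.Quotient.eq]
      simpa using hj
    · rintro ⟨q, hq⟩
      obtain ⟨c, rfl⟩ := Submodule.Quotient.mk_surjective _ q
      rw [Submodule.mapQ_apply, Submodule.Quotient.eq] at hq
      have : r = c * y - (c * y - r) := by ring
      rw [this]
      exact sub_mem (Ideal.mem_sup_right (Ideal.mem_span_singleton'.2 ⟨c, rfl⟩)) (Ideal.mem_sup_left (by simpa using hq))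
  rw [Module.length_eq_add_of_exact f g hf (Submodule.factor_surjective _) hfg, add_comm]
  congr 1
  haveI : IsSimpleModule O (O ⧸ M) := isSimpleModule_iff_isCoatom.2 (hM ▸ (maximalIdeal.isMaximal O).out)
  exact Module.length_eq_one O (O ⧸ M)

lemma length_quotient (I : Ideal O) (n : ℕ) (hn : M ^ n ≤ I) :
    Module.length O (O ⧸ I) =
      (((Fintype.piFinset fun _ : Fin N => Finset.range n).filter fun a => deg a < n ∧ a ∉ lead x M I).card : ℕ∞) := by
  let T := (Fintype.piFinset fun _ : Fin N => Finset.range n).filter fun a => deg a < n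
  have memT : ∀ {b}, b ∈ T ↔ deg b < n := fun {b} => by
    simp only [T, Finset.mem_filter, Fintype.mem_piFinset, Finset.mem_range, and_iff_right_iff_imp]
    exact fun h i => lt_of_le_of_lt (Finset.single_le_sum (f := b) (fun j _ => Nat.zero_le _) (Finset.mem_univ i)) h
  let H : Finset (Fin N → ℕ) → Ideal O := fun t => I ⊔ Ideal.span (mon x '' ↑(T \ t))
  suffices h : ∀ t ⊆ T, (∀ a ∈ t, ∀ b ∈ T, key b < key a → b ∈ t) →
      Module.length O (O ⧸ H t) = ((t.filter (· ∉ lead x M I)).card : ℕ∞) by
    have h1 := h T subset_rfl fun a _ b hb _ => hb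
    rw [show H T = I by simp [H]] at h1
    rw [h1]
    congr 2
    simp [T, Finset.filter_filter]
  intro t
  induction t using Finset.induction_on_max_value (key (N := N)) with
  | empty =>
    intro _ _
    have : H ∅ = ⊤ := by
      rw [Ideal.eq_top_iff_one]
      rcases Nat.eq_zero_or_pos n with rfl | hn0
      · exact Ideal.mem_sup_left (hn (by simp))
      · exact Ideal.mem_sup_right (Ideal.subset_span ⟨0, by simpa using memT.2 (by simpa [deg] using hn0), by simp [mon]⟩)
    rw [this]
    simp [Module.length_eq_zero_iff]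
  | insert a t hat hmax ih =>
    intro hsub hlow
    have ha : a ∈ T := hsub (Finset.mem_insert_self a t)
    have hlt : ∀ b ∈ t, key b < key a := fun b hb =>
      lt_of_le_of_ne (hmax b hb) fun h => hat (key_injective h ▸ hb)
    have hafter : H (insert a t) = I ⊔ after x M a := by
      refine le_antisymm (sup_le le_sup_left (Ideal.span_le.2 ?_)) (sup_le le_sup_left (sup_le ?_ (Ideal.span_le.2 ?_)))
      · rintro _ ⟨b, hb, rfl⟩
        rw [Finset.mem_coe, Finset.mem_sdiff, Finset.mem_insert, not_or] at hb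
        have : key a < key b := by
          rcases lt_trichotomy (key a) (key b) with h | h | h
          · exact h
          · exact absurd (key_injective h).symm hb.2.1
          · exact absurd ((Finset.mem_insert.1 (hlow a (Finset.mem_insert_self a t) b hb.1 h)).resolve_left hb.2.1) hb.2.2
        rcases key_lt.1 this with h | ⟨h1, h2⟩
        · exact Ideal.mem_sup_right (Ideal.mem_sup_left (Ideal.pow_le_pow_right h (mon_mem hx b)))
        · exact Ideal.mem_sup_right (Ideal.mem_sup_right (Ideal.subset_span ⟨b, ⟨h1.symm, h2⟩, rfl⟩))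
      · rw [pow_eq_span hx, Ideal.span_le]
        rintro _ ⟨b, hb, rfl⟩
        have hb' : deg b = deg a + 1 := hb
        by_cases hbn : deg b < n
        · refine Ideal.mem_sup_right (Ideal.subset_span ⟨b, ?_, rfl⟩)
          rw [Finset.mem_coe, Finset.mem_sdiff, Finset.mem_insert, not_or]
          refine ⟨memT.2 hbn, fun h => ?_, fun h => ?_⟩
          · subst h; omega
          · exact absurd (hlt b h) (not_lt.2 (key_lt.2 (Or.inl (by omega))).le)
        · exact Ideal.mem_sup_left (hn (Ideal.pow_le_pow_right (not_lt.1 hbn) (mon_mem hx b)))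
      · rintro _ ⟨b, ⟨hb1, hb2⟩, rfl⟩
        have hk : key a < key b := key_lt.2 (Or.inr ⟨hb1.symm, hb2⟩)
        refine Ideal.mem_sup_right (Ideal.subset_span ⟨b, ?_, rfl⟩)
        rw [Finset.mem_coe, Finset.mem_sdiff, Finset.mem_insert, not_or]
        refine ⟨memT.2 (hb1 ▸ memT.1 ha), fun h => ?_, fun h => ?_⟩
        · subst h; exact lt_irrefl _ hk
        · exact absurd (hlt b h) (not_lt.2 hk.le)
    have hH : H t = H (insert a t) ⊔ Ideal.span {mon x a} := by
      have : T \ t = insert a (T \ insert a t) := by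
        ext b
        by_cases hb : b = a <;> simp [hb, ha, hat]
      simp only [H, this, Finset.coe_insert, Set.image_insert_eq, Ideal.span_insert]
      rw [sup_assoc, sup_comm (Ideal.span _) (Ideal.span {mon x a})]
    have hkill : ∀ m ∈ M, m * mon x a ∈ H (insert a t) := fun m hm => by
      rw [hafter]
      refine Ideal.mem_sup_right (Ideal.mem_sup_left ?_)
      rw [pow_succ']
      exact Ideal.mul_mem_mul hm (mon_mem hx a)
    rw [length_step hM (H (insert a t)) (mon x a) hkill, ← hH,
      ih (fun b hb => hsub (Finset.mem_insert_of_mem hb)) (fun b hb c hc h =>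
        (Finset.mem_insert.1 (hlow b (Finset.mem_insert_of_mem hb) c hc h)).resolve_left fun e =>
          absurd ((e ▸ h).trans (hlt b hb)) (lt_irrefl _))]
    by_cases hl : a ∈ lead x M I
    · rw [if_pos (by rw [hafter]; exact hl), Finset.filter_insert, if_neg (by simpa using hl), add_zero]
    · rw [if_neg (by rw [hafter]; exact hl), Finset.filter_insert, if_pos hl,
        Finset.card_insert_of_notMem (by simp [hat]), Nat.cast_add, Nat.cast_one]

lemma length_pow_le (I : Ideal O) (hI : I ≤ M) {k : ℕ} (hk : M ^ k ≤ I) {n : ℕ} (hn : 0 < n) :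
    (Module.length O (O ⧸ I ^ n)).toNat
      ≤ (Module.length O (O ⧸ I)).toNat * boxCard (lead x M (⊥ : Ideal O))ᶜ n := by
  rw [length_quotient hx hM (I ^ n) (k * n) (by rw [pow_mul]; exact Ideal.pow_right_mono hk n),
    length_quotient hx hM I k hk, ENat.toNat_coe, ENat.toNat_coe, boxCard, ← Finset.card_product]
  refine Finset.card_le_card_of_injOn (fun a => (fun i => a i / n, fun i => a i % n)) ?_ ?_
  · intro a ha
    simp only [Finset.mem_coe, Finset.mem_filter, Fintype.mem_piFinset, Finset.mem_range, Finset.mem_product] at ha ⊢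
    have hsplit : n • (fun i => a i / n) + (fun i => a i % n) = a := by
      funext i; simp [Nat.div_add_mod]
    have hb : (fun i => a i / n) ∉ lead x M I := fun h =>
      ha.2.2 (hsplit ▸ lead_upper hx (nsmul_mem_lead hx h n hn))
    have hdeg : deg (fun i => a i / n) < k := by
      by_contra hd
      exact hb (Ideal.mem_sup_left (hk (Ideal.pow_le_pow_right (not_lt.1 hd) (mon_mem hx _))))
    refine ⟨⟨fun i => lt_of_le_of_lt (Finset.single_le_sum (f := fun i => a i / n) (fun j _ => Nat.zero_le _)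
      (Finset.mem_univ i)) hdeg, hdeg, hb⟩, fun i => Nat.mod_lt _ hn, ?_⟩
    exact isLowerSet_compl_lead hx ⊥ (fun i => Nat.mod_le (a i) n) (fun h => ha.2.2 (lead_mono bot_le h))
  · intro a _ b _ h
    funext i
    have h1 := congrFun (congrArg Prod.fst h) i
    have h2 := congrFun (congrArg Prod.snd h) i
    simp only at h1 h2
    rw [← Nat.div_add_mod (a i) n, ← Nat.div_add_mod (b i) n, h1, h2]

lemma length_pow_max (n : ℕ) :
    (Module.length O (O ⧸ M ^ n)).toNat = simpCard (lead x M (⊥ : Ideal O))ᶜ n := by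
  rw [length_quotient hx hM (M ^ n) n le_rfl, ENat.toNat_coe, simpCard]
  congr 1
  ext a
  simp only [Finset.mem_filter, Set.mem_compl_iff]
  refine and_congr_right fun _ => ?_
  constructor
  · rintro ⟨h1, h2⟩
    exact ⟨fun h => h2 (lead_mono bot_le h), h1⟩
  · rintro ⟨h1, h2⟩
    refine ⟨h2, fun h => h1 ?_⟩
    have : M ^ n ≤ after x M a := le_sup_of_le_left (Ideal.pow_le_pow_right (show deg a + 1 ≤ n from h2))
    show mon x a ∈ ⊥ ⊔ after x M a
    exact sup_le (this.trans le_sup_right) le_sup_right h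

omit hx hM in
/-- Lech's inequality -/
theorem lech [IsNoetherianRing O] (r : ℕ) (I : Ideal O) (hI : I ≤ maximalIdeal O)
    (hIk : ∃ k : ℕ, maximalIdeal O ^ k ≤ I) (eI eO : ℝ)
    (heI : Tendsto (fun n : ℕ => (r.factorial : ℝ) * ((Module.length O (O ⧸ I ^ n)).toNat : ℝ) / (n : ℝ) ^ r) atTop (nhds eI))
    (heO : Tendsto (fun n : ℕ => (r.factorial : ℝ) * ((Module.length O (O ⧸ maximalIdeal O ^ n)).toNat : ℝ) / (n : ℝ) ^ r)
      atTop (nhds eO)) :
    eI ≤ (r.factorial : ℝ) * eO * ((Module.length O (O ⧸ I)).toNat : ℝ) := by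
  obtain ⟨N, x, hx⟩ := Submodule.fg_iff_exists_fin_generating_family.1 (IsNoetherian.noetherian (maximalIdeal O))
  obtain ⟨k, hk⟩ := hIk
  have heO' : Tendsto (fun n : ℕ => (r.factorial : ℝ) * (simpCard (lead x (maximalIdeal O) (⊥ : Ideal O))ᶜ n : ℝ) / (n : ℝ) ^ r)
      atTop (nhds eO) := by
    refine heO.congr fun n => ?_
    rw [length_pow_max hx rfl n]
  obtain ⟨c, hc, g, hg, hgc⟩ := exists_box_bound (isLowerSet_compl_lead hx ⊥) r eO heO'
  refine le_trans (le_of_tendsto_of_tendsto heI ((hgc.const_mul (r.factorial : ℝ)).mul_const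
    ((Module.length O (O ⧸ I)).toNat : ℝ)) ((eventually_gt_atTop 0).mono fun n hn => ?_))
    (mul_le_mul_of_nonneg_right (mul_le_mul_of_nonneg_left hc (by positivity)) (by positivity))
  calc (r.factorial : ℝ) * ((Module.length O (O ⧸ I ^ n)).toNat : ℝ) / (n : ℝ) ^ r
      ≤ (r.factorial : ℝ) * (((Module.length O (O ⧸ I)).toNat : ℝ) * g n) / (n : ℝ) ^ r := by
        refine div_le_div_of_nonneg_right (mul_le_mul_of_nonneg_left ?_ (by positivity)) (by positivity)
        refine le_trans ?_ (mul_le_mul_of_nonneg_left (hg n) (by positivity))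
        exact_mod_cast length_pow_le hx rfl I hI hk hn
    _ = _ := by ring

end

end Groth.Agent.Lech
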