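import Mathlib

/-!
Counting exponents in a lower set of `Fin N → ℕ`: box against simplex.
-/

set_option autoImplicit false

open Filter Finset

namespace Groth.Agent.Lech

noncomputable section
open Classical

/-- exponents with all entries `< n`, lying in `B` -/
def boxCard {N : ℕ} (B : Set (Fin N → ℕ)) (n : ℕ) : ℕ :=
  ((Fintype.piFinset fun _ : Fin N => Finset.range n).filter (· ∈ B)).card

/-- exponents of total degree `< n`, lying in `B` -/
def simpCard {N : ℕ} (B : Set (Fin N → ℕ)) (n : ℕ) : ℕ :=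
  ((Fintype.piFinset fun _ : Fin N => Finset.range n).filter fun a => a ∈ B ∧ ∑ i, a i < n).card

lemma boxCard_succ {N : ℕ} (B : Set (Fin (N + 1) → ℕ)) (n : ℕ) :
    boxCard B n = ∑ t ∈ Finset.range n, boxCard {a | Fin.cons t a ∈ B} n := by
  rw [boxCard, Finset.card_eq_sum_card_fiberwise (f := fun a : Fin (N + 1) → ℕ => a 0) (t := Finset.range n)]
  · refine Finset.sum_congr rfl fun t ht => ?_
    rw [boxCard]
    refine Finset.card_bij' (fun a _ => Fin.tail a) (fun a _ => Fin.cons t a) ?_ ?_ ?_ ?_
    · intro a ha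
      simp only [Finset.mem_filter, Fintype.mem_piFinset] at ha ⊢
      refine ⟨fun i => ha.1.1 i.succ, ?_⟩
      show Fin.cons t (Fin.tail a) ∈ B
      rw [← ha.2, Fin.cons_self_tail]
      exact ha.1.2
    · intro a ha
      simp only [Finset.mem_filter, Fintype.mem_piFinset] at ha ⊢
      exact ⟨⟨fun i => Fin.cases (by simpa using ht) (fun j => by simpa using ha.1 j) i, ha.2⟩, by simp⟩
    · intro a ha
      simp only [Finset.mem_filter] at ha
      simp only [← ha.2, Fin.cons_self_tail]
    · intro a _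
      simp
  · intro a ha
    simp only [Finset.mem_coe, Finset.mem_filter, Fintype.mem_piFinset] at ha ⊢
    exact ha.1 0

lemma simpCard_succ {N : ℕ} (B : Set (Fin (N + 1) → ℕ)) (n : ℕ) :
    simpCard B n = ∑ t ∈ Finset.range n, simpCard {a | Fin.cons t a ∈ B} (n - t) := by
  rw [simpCard, Finset.card_eq_sum_card_fiberwise (f := fun a : Fin (N + 1) → ℕ => a 0) (t := Finset.range n)]
  · refine Finset.sum_congr rfl fun t ht => ?_
    rw [simpCard]
    refine Finset.card_bij' (fun a _ => Fin.tail a) (fun a _ => Fin.cons t a) ?_ ?_ ?_ ?_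
    · intro a ha
      simp only [Finset.mem_filter, Fintype.mem_piFinset, Finset.mem_range] at ha ⊢
      have h1 : t + ∑ i, Fin.tail a i < n := by
        rw [← ha.2]; have := ha.1.2.2; rw [Fin.sum_univ_succ] at this; exact this
      refine ⟨fun i => ?_, ?_, by omega⟩
      · have := Finset.single_le_sum (f := Fin.tail a) (fun j _ => Nat.zero_le _) (Finset.mem_univ i)
        omega
      · show Fin.cons t (Fin.tail a) ∈ B
        rw [← ha.2, Fin.cons_self_tail]
        exact ha.1.2.1
    · intro a ha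
      simp only [Finset.mem_filter, Fintype.mem_piFinset, Finset.mem_range] at ha ⊢
      refine ⟨⟨fun i => ?_, ha.2.1, ?_⟩, by simp⟩
      · refine Fin.cases (by simpa using ht) (fun j => ?_) i
        have := ha.1 j
        simp
        omega
      · rw [Fin.sum_univ_succ]
        simp only [Fin.cons_zero, Fin.cons_succ]
        omega
    · intro a ha
      simp only [Finset.mem_filter] at ha
      simp only [← ha.2, Fin.cons_self_tail]
    · intro a _
      simp
  · intro a ha
    simp only [Finset.mem_coe, Finset.mem_filter, Fintype.mem_piFinset] at ha ⊢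
    exact ha.1 0

lemma sum_pow_ge (s k : ℕ) : k ^ (s + 1) ≤ (s + 1) * ∑ m ∈ Finset.range (k + 1), m ^ s := by
  induction k with
  | zero => simp
  | succ k ih =>
    rw [Finset.sum_range_succ, mul_add]
    have key : ∀ t : ℕ, (k + 1) ^ (t + 1) ≤ k ^ (t + 1) + (t + 1) * (k + 1) ^ t := by
      intro t
      induction t with
      | zero => simp
      | succ t iht =>
        have h1 : k ^ (t + 1) ≤ (k + 1) ^ (t + 1) := Nat.pow_le_pow_left (by omega) _
        calc (k + 1) ^ (t + 1 + 1) = (k + 1) ^ (t + 1) * k + (k + 1) ^ (t + 1) := by ring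
          _ ≤ (k ^ (t + 1) + (t + 1) * (k + 1) ^ t) * k + (k + 1) ^ (t + 1) :=
              Nat.add_le_add_right (Nat.mul_le_mul_right _ iht) _
          _ ≤ k ^ (t + 1 + 1) + (t + 1) * (k + 1) ^ (t + 1) + (k + 1) ^ (t + 1) := by
              gcongr
              rw [add_mul, mul_assoc, ← pow_succ]
              gcongr
              rw [pow_succ (k + 1) t]
              gcongr
              omega
          _ = _ := by ring
    exact (key s).trans (Nat.add_le_add_right ih _)

lemma sum_mul_le {s D T n : ℕ} :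
    ((n - (D + T) : ℕ) : ℝ) ^ (s + 1) / (s + 1).factorial
      ≤ ∑ t ∈ Finset.Ico T (n - D), ((n - t - D : ℕ) : ℝ) ^ s / s.factorial := by
  rw [← Finset.sum_div, div_le_div_iff₀ (by positivity) (by positivity)]
  have h1 : ∑ m ∈ Finset.range (n - (D + T) + 1), m ^ s ≤ (∑ t ∈ Finset.Ico T (n - D), (n - t - D) ^ s) + (if s = 0 then 1 else 0) := by
    rw [Finset.sum_range_succ']
    refine Nat.add_le_add ?_ (by split_ifs with h <;> simp [h])
    have e1 : ∀ m ∈ Finset.range (n - (D + T)), (m + 1) ^ s = (n - (n - D - (m + 1)) - D) ^ s := fun m hm => by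
      rw [Finset.mem_range] at hm; congr 1; omega
    rw [Finset.sum_congr rfl e1, ← Finset.sum_image (f := fun t => (n - t - D) ^ s) (g := fun m => n - D - (m + 1))]
    · refine Finset.sum_le_sum_of_subset fun t ht => ?_
      simp only [Finset.mem_image, Finset.mem_range] at ht
      obtain ⟨m, hm, rfl⟩ := ht
      rw [Finset.mem_Ico]; omega
    · intro a ha b hb hab
      simp only [Finset.mem_coe, Finset.mem_range] at ha hb
      simp only at hab
      omega
  have h2 : (n - (D + T)) ^ (s + 1) ≤ (s + 1) * ∑ t ∈ Finset.Ico T (n - D), (n - t - D) ^ s := by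
    rcases Nat.eq_zero_or_pos s with rfl | hs
    · simp only [zero_add, pow_one, pow_zero, one_mul, Finset.sum_const, Nat.card_Ico, smul_eq_mul, mul_one]
      omega
    · rw [if_neg hs.ne', add_zero] at h1
      exact (sum_pow_ge s _).trans (Nat.mul_le_mul_left _ h1)
  rw [Nat.factorial_succ, Nat.cast_mul, ← mul_assoc]
  refine mul_le_mul_of_nonneg_right ?_ (by positivity)
  rw [mul_comm]
  exact_mod_cast h2

lemma exists_slices_stabilise {N : ℕ} {B : Set (Fin (N + 1) → ℕ)} (hB : IsLowerSet B) :
    ∃ T : ℕ, ∀ t, T ≤ t → {a : Fin N → ℕ | Fin.cons t a ∈ B} = {a | Fin.cons T a ∈ B} := by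
  have hanti : ∀ {t t' : ℕ}, t ≤ t' → {a : Fin N → ℕ | Fin.cons t' a ∈ B} ⊆ {a | Fin.cons t a ∈ B} :=
    fun h a ha => hB (Fin.le_cons.2 ⟨by simpa using h, by simp⟩) ha
  by_contra hc
  push_neg at hc
  have hc' : ∀ T : ℕ, ∃ t, T ≤ t ∧ ∃ a : Fin N → ℕ, Fin.cons T a ∈ B ∧ Fin.cons t a ∉ B := by
    intro T
    obtain ⟨t, ht, hne⟩ := hc T
    refine ⟨t, ht, ?_⟩
    by_contra hh
    push_neg at hh
    exact hne (Set.Subset.antisymm (hanti ht) fun a ha => hh a ha)
  choose g hg a ha hna using hc'
  let τ : ℕ → ℕ := fun k => g^[k] 0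
  have hτ : ∀ k, τ (k + 1) = g (τ k) := fun k => Function.iterate_succ_apply' g k 0
  have hmono : Monotone τ := monotone_nat_of_le_succ fun k => by rw [hτ]; exact hg _
  obtain ⟨i, j, hij, hle⟩ := wellQuasiOrdered_le (fun k => a (τ k))
  refine hna (τ i) (hB ?_ (ha (τ j)))
  rw [← hτ]
  exact Fin.le_cons.2 ⟨by simpa using hmono (Nat.succ_le_of_lt hij), by simpa using hle⟩

lemma sum_map_sum {ι : Type} {α : Type} [AddCommMonoid α] (f : ℕ → α) (s : Finset ι) (P : ι → Multiset ℕ) :
    ((∑ t ∈ s, P t).map f).sum = ∑ t ∈ s, ((P t).map f).sum :=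
  map_sum (Multiset.sumAddMonoidHom.comp (Multiset.mapAddMonoidHom f)) P s

/-- the counting functions of a lower set -/
theorem exists_pieces : ∀ {N : ℕ} (B : Set (Fin N → ℕ)), IsLowerSet B →
    ∃ (P : Multiset ℕ) (D : ℕ), ∀ n : ℕ, (boxCard B n : ℝ) ≤ (P.map fun s => (n : ℝ) ^ s).sum ∧
      (D < n → (P.map fun s => ((n - D : ℕ) : ℝ) ^ s / s.factorial).sum ≤ (simpCard B n : ℝ)) := by
  intro N
  induction N with
  | zero =>
    intro B _
    by_cases h : (Fin.elim0 : Fin 0 → ℕ) ∈ B
    · refine ⟨{0}, 0, fun n => ⟨?_, fun hn => ?_⟩⟩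
      · simp only [Multiset.map_singleton, Multiset.sum_singleton, pow_zero, Nat.cast_le_one, boxCard]
        exact (Finset.card_filter_le _ _).trans (by simp)
      · simp only [Multiset.map_singleton, Multiset.sum_singleton, pow_zero, Nat.factorial_zero, Nat.cast_one, div_one,
          Nat.one_le_cast, simpCard]
        refine Finset.card_pos.2 ⟨Fin.elim0, ?_⟩
        simp [h, hn]; exact Subsingleton.elim _ _
    · refine ⟨0, 0, fun n => ⟨?_, fun _ => by simp⟩⟩
      simp only [Multiset.map_zero, Multiset.sum_zero, boxCard]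
      rw [Finset.filter_false_of_mem, Finset.card_empty, Nat.cast_zero]
      intro a _ ha
      exact h (Subsingleton.elim a Fin.elim0 ▸ ha)
  | succ N IH =>
    intro B hB
    let sl : ℕ → Set (Fin N → ℕ) := fun t => {a | Fin.cons t a ∈ B}
    have hsl : ∀ t, IsLowerSet (sl t) := fun t a b hab ha => hB (Fin.le_cons.2 ⟨by simp, by simpa using hab⟩) ha
    choose P D hPD using fun t => IH (sl t) (hsl t)
    obtain ⟨T, hT⟩ := exists_slices_stabilise hB
    let D' := T + (Finset.range (T + 1)).sup D
    refine ⟨(∑ t ∈ Finset.range T, P t) + (P T).map (· + 1), D', fun n => ⟨?_, fun hn => ?_⟩⟩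
    · rw [boxCard_succ, Multiset.map_add, Multiset.sum_add, sum_map_sum, Multiset.map_map, Nat.cast_sum,
        ← Finset.sum_filter_add_sum_filter_not (Finset.range n) (· < T)]
      refine add_le_add ((Finset.sum_le_sum fun t _ => (hPD t n).1).trans ?_) ?_
      · exact Finset.sum_le_sum_of_subset_of_nonneg (fun t ht => by simp at ht ⊢; omega)
          fun t _ _ => Multiset.sum_nonneg fun x hx => by
            obtain ⟨s, _, rfl⟩ := Multiset.mem_map.1 hx; positivity
      · have h1 : ∀ t ∈ (Finset.range n).filter (fun t => ¬ t < T),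
            (boxCard {a : Fin N → ℕ | Fin.cons t a ∈ B} n : ℝ) ≤ ((P T).map fun s => (n : ℝ) ^ s).sum := fun t ht => by
          rw [Finset.mem_filter] at ht
          rw [hT t (by omega)]
          exact (hPD T n).1
        refine (Finset.sum_le_card_nsmul _ _ _ h1).trans ?_
        have h2 : ((P T).map ((fun s => (n : ℝ) ^ s) ∘ (· + 1))).sum = (n : ℝ) * ((P T).map fun s => (n : ℝ) ^ s).sum := by
          rw [← Multiset.sum_map_mul_left]
          exact congrArg Multiset.sum (Multiset.map_congr rfl fun s _ => by simp [pow_succ, mul_comm])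
        rw [nsmul_eq_mul, h2]
        refine mul_le_mul_of_nonneg_right ?_ (Multiset.sum_nonneg fun x hx => by
            obtain ⟨s, _, rfl⟩ := Multiset.mem_map.1 hx; positivity)
        exact_mod_cast (Finset.card_filter_le _ _).trans (Finset.card_range n).le
    · have hD : ∀ t, t ≤ T → D t + T ≤ D' := fun t ht => by
        have := Finset.le_sup (f := D) (Finset.mem_range.2 (show t < T + 1 by omega))
        omega
      rw [simpCard_succ, Nat.cast_sum, Multiset.map_add, Multiset.sum_add, sum_map_sum, Multiset.map_map,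
        ← Finset.sum_range_add_sum_Ico _ (by omega : T ≤ n)]
      refine add_le_add (Finset.sum_le_sum fun t ht => ?_) ?_
      · rw [Finset.mem_range] at ht
        have := hD t ht.le
        refine le_trans (Multiset.sum_map_le_sum_map _ _ fun s _ => ?_) ((hPD t (n - t)).2 (by omega))
        refine div_le_div_of_nonneg_right (pow_le_pow_left₀ (Nat.cast_nonneg _) (Nat.cast_le.2 ?_) _) (by positivity)
        omega
      · refine le_trans ?_ (le_trans (Finset.sum_le_sum
          (f := fun t => ((P T).map fun s => ((n - t - D T : ℕ) : ℝ) ^ s / s.factorial).sum)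
          (s := Finset.Ico T (n - D T)) fun t ht => ?_)
          (Finset.sum_le_sum_of_subset_of_nonneg (Finset.Ico_subset_Ico le_rfl (Nat.sub_le n (D T)))
            fun t _ _ => Nat.cast_nonneg _))
        · rw [Finset.sum_eq_multiset_sum, ← Multiset.sum_map_sum_map (P T) (Finset.Ico T (n - D T)).val
            (f := fun s t => ((n - t - D T : ℕ) : ℝ) ^ s / s.factorial)]
          refine Multiset.sum_map_le_sum_map _ _ fun s _ => le_trans ?_ sum_mul_le
          have := hD T le_rfl
          simp only [Function.comp]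
          refine div_le_div_of_nonneg_right (pow_le_pow_left₀ (Nat.cast_nonneg _) (Nat.cast_le.2 ?_) _) (by positivity)
          omega
        · rw [Finset.mem_Ico] at ht
          rw [hT t ht.1]
          exact (hPD T (n - t)).2 (by omega)

lemma tendsto_sub_pow (D : ℕ) {s r : ℕ} (hsr : s ≤ r) :
    Tendsto (fun n : ℕ => ((n - D : ℕ) : ℝ) ^ s / (n : ℝ) ^ r) atTop (nhds (if s = r then 1 else 0)) := by
  have h1 : Tendsto (fun n : ℕ => ((n - D : ℕ) : ℝ) / n) atTop (nhds 1) := by
    have h0 : Tendsto (fun n : ℕ => 1 - (D : ℝ) / n) atTop (nhds 1) := by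
      simpa using (tendsto_const_div_atTop_nhds_zero_nat (D : ℝ)).const_sub 1
    refine h0.congr' ((eventually_ge_atTop (D + 1)).mono fun n hn => ?_)
    show _ = ((n - D : ℕ) : ℝ) / n
    rw [Nat.cast_sub (show D ≤ n by omega), sub_div,
      div_self (show (n : ℝ) ≠ 0 by exact_mod_cast (show n ≠ 0 by omega))]
  have h3 : Tendsto (fun n : ℕ => ((n : ℝ) ^ (r - s))⁻¹) atTop (nhds (if s = r then 1 else 0)) := by
    split_ifs with h
    · subst h; simp
    · exact tendsto_inv_atTop_zero.comp ((tendsto_pow_atTop (by omega)).comp tendsto_natCast_atTop_atTop)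
  have h4 := (h1.pow s).mul h3
  rw [one_pow, one_mul] at h4
  refine h4.congr' ((eventually_ge_atTop 1).mono fun n hn => ?_)
  have : (n : ℝ) ≠ 0 := by exact_mod_cast (show n ≠ 0 by omega)
  show (((n - D : ℕ) : ℝ) / n) ^ s * ((n : ℝ) ^ (r - s))⁻¹ = ((n - D : ℕ) : ℝ) ^ s / (n : ℝ) ^ r
  rw [div_pow, div_mul_eq_mul_div, ← div_eq_mul_inv, div_div, ← pow_add, show r - s + s = r by omega]

lemma tendsto_multiset {r : ℕ} {f : ℕ → ℕ → ℝ} {l : ℕ → ℝ} : ∀ (P : Multiset ℕ),
    (∀ s ∈ P, Tendsto (f s) atTop (nhds (l s))) →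
      Tendsto (fun n => (P.map fun s => f s n).sum) atTop (nhds (P.map l).sum) := by
  intro P h
  induction P using Multiset.induction with
  | empty => simp
  | cons a P ih =>
    simp only [Multiset.map_cons, Multiset.sum_cons]
    exact (h a (Multiset.mem_cons_self a P)).add (ih fun s hs => h s (Multiset.mem_cons_of_mem hs))

/-- the box count is bounded by a function asymptotic to at most the normalised simplex count -/
theorem exists_box_bound {N : ℕ} {B : Set (Fin N → ℕ)} (hB : IsLowerSet B) (r : ℕ) (e : ℝ)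
    (he : Tendsto (fun n : ℕ => (r.factorial : ℝ) * (simpCard B n : ℝ) / (n : ℝ) ^ r) atTop (nhds e)) :
    ∃ c ≤ e, ∃ g : ℕ → ℝ, (∀ n, (boxCard B n : ℝ) ≤ g n) ∧
      Tendsto (fun n : ℕ => g n / (n : ℝ) ^ r) atTop (nhds c) := by
  obtain ⟨P, D, hP⟩ := exists_pieces B hB
  have hpiece : ∀ s ∈ P, ∀ n, D < n → ((n - D : ℕ) : ℝ) ^ s / s.factorial ≤ simpCard B n := fun s hs n hn =>
    (Multiset.single_le_sum (fun x hx => by obtain ⟨t, _, rfl⟩ := Multiset.mem_map.1 hx; positivity) _
      (Multiset.mem_map_of_mem (fun s : ℕ => ((n - D : ℕ) : ℝ) ^ s / s.factorial) hs)).trans ((hP n).2 hn)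
  have hle : ∀ s ∈ P, s ≤ r := by
    intro s hs
    by_contra hsr
    push Not at hsr
    have h1 : ∀ᶠ n : ℕ in atTop, ((n - D : ℕ) : ℝ) ^ (r + 1) / (n : ℝ) ^ (r + 1) * n
        ≤ (s.factorial : ℝ) / r.factorial * (e + 1) := by
      filter_upwards [eventually_gt_atTop D, he.eventually (eventually_le_nhds (lt_add_one e))] with n hn hb
      have hn0 : (0 : ℝ) < n := by exact_mod_cast (show 0 < n by omega)
      have h2 : ((n - D : ℕ) : ℝ) ^ (r + 1) ≤ s.factorial * (simpCard B n : ℝ) := by
        have h3 := hpiece s hs n hn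
        rw [div_le_iff₀ (by positivity)] at h3
        refine le_trans ?_ (h3.trans (le_of_eq (mul_comm _ _)))
        exact pow_le_pow_right₀ (by exact_mod_cast (show 1 ≤ n - D by omega)) hsr
      rw [pow_succ (n : ℝ), div_mul_eq_mul_div, mul_div_mul_right _ _ hn0.ne']
      calc ((n - D : ℕ) : ℝ) ^ (r + 1) / (n : ℝ) ^ r ≤ s.factorial * (simpCard B n : ℝ) / (n : ℝ) ^ r := by gcongr
        _ = (s.factorial : ℝ) / r.factorial * ((r.factorial : ℝ) * (simpCard B n : ℝ) / (n : ℝ) ^ r) := by
            field_simp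
        _ ≤ _ := mul_le_mul_of_nonneg_left hb (by positivity)
    have h2 := tendsto_sub_pow D (le_refl (r + 1))
    rw [if_pos rfl] at h2
    have h3 : Tendsto (fun n : ℕ => ((n - D : ℕ) : ℝ) ^ (r + 1) / (n : ℝ) ^ (r + 1) * n) atTop atTop :=
      h2.pos_mul_atTop one_pos tendsto_natCast_atTop_atTop
    obtain ⟨n, hn1, hn2⟩ := (h1.and (h3.eventually_gt_atTop ((s.factorial : ℝ) / r.factorial * (e + 1)))).exists
    exact absurd hn1 (not_le.2 hn2)
  refine ⟨(P.map fun s => if s = r then (1 : ℝ) else 0).sum, ?_, fun n => (P.map fun s => (n : ℝ) ^ s).sum,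
    fun n => (hP n).1, ?_⟩
  · have h1 := tendsto_multiset (r := r) (f := fun s n => (r.factorial : ℝ) / s.factorial * (((n - D : ℕ) : ℝ) ^ s / (n : ℝ) ^ r))
      (l := fun s => (r.factorial : ℝ) / s.factorial * (if s = r then 1 else 0)) P
      fun s hs => (tendsto_sub_pow D (hle s hs)).const_mul _
    have h2 : (P.map fun s => (r.factorial : ℝ) / s.factorial * (if s = r then 1 else 0)).sum
        = (P.map fun s => if s = r then (1 : ℝ) else 0).sum := by
      refine congrArg Multiset.sum (Multiset.map_congr rfl fun s _ => ?_)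
      split_ifs with h
      · subst h; simp [Nat.factorial_ne_zero]
      · simp
    rw [← h2]
    refine le_of_tendsto_of_tendsto h1 he ((eventually_gt_atTop D).mono fun n hn => ?_)
    calc (P.map fun s => (r.factorial : ℝ) / s.factorial * (((n - D : ℕ) : ℝ) ^ s / (n : ℝ) ^ r)).sum
        = (r.factorial : ℝ) / (n : ℝ) ^ r * (P.map fun s => ((n - D : ℕ) : ℝ) ^ s / s.factorial).sum := by
          rw [← Multiset.sum_map_mul_left]
          exact congrArg Multiset.sum (Multiset.map_congr rfl fun s _ => by ring)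
      _ ≤ (r.factorial : ℝ) / (n : ℝ) ^ r * (simpCard B n : ℝ) := mul_le_mul_of_nonneg_left ((hP n).2 hn) (by positivity)
      _ = _ := by ring
  · have h1 := tendsto_multiset (r := r) (f := fun s n => (n : ℝ) ^ s / (n : ℝ) ^ r) (l := fun s => if s = r then (1 : ℝ) else 0) P
      fun s hs => by simpa using tendsto_sub_pow 0 (hle s hs)
    refine h1.congr fun n => ?_
    rw [← Multiset.sum_map_div]

end

end Groth.Agent.Lech
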